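import Groth.Agent.Lib.IntClosFin.Insep
import Mathlib.FieldTheory.Normal.Closure
import Mathlib.RingTheory.DedekindDomain.IntegralClosure
import Mathlib.RingTheory.NoetherNormalization
import Mathlib.RingTheory.Localization.Finiteness
import Mathlib.FieldTheory.Galois.Basic

/-!
Finiteness of the integral closure of a finitely generated domain over a field.
-/

universe u

namespace Groth.Agent.IntClosFin

variable {k : Type u} [Field k]

theorem finite_integralClosure_tower (P B M N : Type u) [CommRing P] [IsNoetherianRing P] [CommRing B]
    [Algebra P B] [Module.Finite P B] [IsDomain B] [IsIntegrallyClosed B] [Field M] [Field N] [Algebra B M]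
    [IsFractionRing B M] [Algebra M N] [Algebra B N] [IsScalarTower B M N] [FiniteDimensional M N]
    [Algebra.IsSeparable M N] [Algebra P N] [IsScalarTower P B N] :
    Module.Finite P (integralClosure P N) := by
  haveI : IsNoetherianRing B := IsNoetherianRing.of_finite P B
  haveI : Module.Finite B (integralClosure B N) := IsIntegralClosure.finite B M N _
  haveI : Module.Finite P (integralClosure B N) := Module.Finite.trans B _
  let g : integralClosure P N →ₗ[P] integralClosure B N :=
    { toFun := fun x => ⟨x.1, IsIntegral.tower_top x.2⟩
      map_add' := fun x y => rfl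
      map_smul' := fun c x => rfl }
  exact Module.Finite.of_injective g fun x y h => Subtype.ext (congrArg Subtype.val h :)

theorem finite_integralClosure_mvPolynomial {d : ℕ} (F L : Type u) [Field F] [Field L]
    [Algebra (MvPolynomial (Fin d) k) F] [IsFractionRing (MvPolynomial (Fin d) k) F]
    [Algebra (MvPolynomial (Fin d) k) L] [Algebra F L] [IsScalarTower (MvPolynomial (Fin d) k) F L]
    [FiniteDimensional F L] :
    Module.Finite (MvPolynomial (Fin d) k) (integralClosure (MvPolynomial (Fin d) k) L) := by
  let P := MvPolynomial (Fin d) k
  let Ω := AlgebraicClosure L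
  let N : IntermediateField F Ω := IntermediateField.normalClosure F L Ω
  haveI : FiniteDimensional F N := normalClosure.is_finiteDimensional F L Ω
  haveI : Normal F N := normalClosure.normal F L Ω
  let M : IntermediateField F N := IntermediateField.fixedField (⊤ : Subgroup Gal(N/F))
  haveI : IsPurelyInseparable F M := isPurelyInseparable_of_fixed
  haveI : IsScalarTower P F M := IsScalarTower.of_algebraMap_eq fun x => Subtype.ext (IsScalarTower.algebraMap_apply P F N x)
  haveI : Module.Finite P (integralClosure P M) := finite_integralClosure_purelyInseparable F M
  haveI : IsFractionRing (integralClosure P M) M := IsIntegralClosure.isFractionRing_of_finite_extension P F M _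
  haveI : IsIntegrallyClosed (integralClosure P M) := integralClosure.isIntegrallyClosedOfFiniteExtension F
  haveI : IsGalois M N := IsGalois.of_fixed_field N (⊤ : Subgroup Gal(N/F))
  haveI : IsScalarTower (integralClosure P M) M N := IsScalarTower.of_algebraMap_eq fun x => rfl
  haveI : IsScalarTower P (integralClosure P M) N := IsScalarTower.of_algebraMap_eq fun x => rfl
  haveI : Module.Finite P (integralClosure P N) := finite_integralClosure_tower P (integralClosure P M) M N
  obtain ⟨j⟩ : Nonempty (L →ₐ[F] N) :=
    ⟨(IntermediateField.inclusion ((IsScalarTower.toAlgHom F L Ω).fieldRange_le_normalClosure)).comp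
      (IsScalarTower.toAlgHom F L Ω).equivFieldRange.toAlgHom⟩
  let jP : L →ₐ[P] N := j.restrictScalars P
  let g : integralClosure P L →ₗ[P] integralClosure P N :=
    { toFun := fun x => ⟨jP x, x.2.map jP⟩
      map_add' := fun x y => Subtype.ext (map_add jP (x : L) (y : L))
      map_smul' := fun c x => Subtype.ext (jP.toLinearMap.map_smul c (x : L)) }
  exact Module.Finite.of_injective g fun x y h =>
    Subtype.ext ((j : L →+* N).injective (congrArg Subtype.val h :))

/-- The integral closure of a finitely generated domain over a field in a finite extension of its
fraction field is a finite module. -/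
theorem finite_integralClosure (k A K L : Type u) [Field k] [CommRing A] [IsDomain A]
    [Algebra k A] [Algebra.FiniteType k A] [Field K] [Field L] [Algebra A K] [IsFractionRing A K] [Algebra K L]
    [FiniteDimensional K L] [Algebra A L] [IsScalarTower A K L] : Module.Finite A (integralClosure A L) := by
  obtain ⟨d, φ, hφ, hfin⟩ := exists_finite_inj_algHom_of_fg k A
  let P := MvPolynomial (Fin d) k
  letI : Algebra P A := φ.toRingHom.toAlgebra
  haveI : Module.Finite P A := hfin
  haveI : FaithfulSMul P A := (faithfulSMul_iff_algebraMap_injective P A).2 hφ
  haveI : Algebra.IsIntegral P A := inferInstance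
  let F := FractionRing P
  letI : Algebra P K := ((algebraMap A K).comp (algebraMap P A)).toAlgebra
  haveI : IsScalarTower P A K := IsScalarTower.of_algebraMap_eq fun x => rfl
  haveI : FaithfulSMul P K := (faithfulSMul_iff_algebraMap_injective P K).2
    ((IsFractionRing.injective A K).comp hφ)
  letI : Algebra F K := FractionRing.liftAlgebra P K
  haveI : IsScalarTower P F K := FractionRing.isScalarTower_liftAlgebra P K
  haveI : Algebra.IsAlgebraic P A := Algebra.IsIntegral.isAlgebraic
  haveI : FiniteDimensional F K := Module.Finite.of_isLocalization P A (nonZeroDivisors P)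
  letI : Algebra P L := ((algebraMap A L).comp (algebraMap P A)).toAlgebra
  haveI : IsScalarTower P A L := IsScalarTower.of_algebraMap_eq fun x => rfl
  letI : Algebra F L := ((algebraMap K L).comp (algebraMap F K)).toAlgebra
  haveI : IsScalarTower F K L := IsScalarTower.of_algebraMap_eq fun x => rfl
  haveI : IsScalarTower P F L := IsScalarTower.of_algebraMap_eq fun x => by
    show algebraMap A L (algebraMap P A x) = algebraMap K L (algebraMap F K (algebraMap P F x))
    rw [← IsScalarTower.algebraMap_apply P F K, IsScalarTower.algebraMap_apply A K L]
    rfl
  haveI : FiniteDimensional F L := Module.Finite.trans K L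
  haveI : Module.Finite P (integralClosure P L) := finite_integralClosure_mvPolynomial F L
  let g : integralClosure A L →ₗ[P] integralClosure P L :=
    { toFun := fun x => ⟨x.1, isIntegral_trans x.1 x.2⟩
      map_add' := fun x y => rfl
      map_smul' := fun c x => rfl }
  haveI : Module.Finite P (integralClosure A L) := Module.Finite.of_injective g fun x y h => Subtype.ext (congrArg Subtype.val h :)
  exact Module.Finite.of_restrictScalars_finite P A _

end Groth.Agent.IntClosFin
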