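import Mathlib.FieldTheory.PurelyInseparable.Basic
import Mathlib.FieldTheory.Galois.Basic
import Mathlib.RingTheory.Adjoin.Field
import Mathlib.RingTheory.Finiteness.Basic
import Mathlib.RingTheory.MvPolynomial.Basic
import Mathlib.RingTheory.Polynomial.Basic
import Mathlib.RingTheory.Polynomial.UniqueFactorization
import Mathlib.RingTheory.IntegralClosure.IntegrallyClosed
import Mathlib.RingTheory.Localization.FractionRing
import Mathlib.RingTheory.LocalRing.Basic
import Mathlib.Algebra.CharP.Frobenius
import Groth.Agent.Lib.IntClosFin.FrobRing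
import Mathlib.RingTheory.Polynomial.RationalRoot

/-!
Finiteness of the integral closure of a polynomial ring over a field in a purely inseparable extension.
-/

universe u

open MvPolynomial

namespace Groth.Agent.IntClosFin

variable {k : Type u} [Field k] {d : ℕ}

theorem isPurelyInseparable_of_fixed {F L : Type u} [Field F] [Field L] [Algebra F L] [FiniteDimensional F L]
    [Normal F L] : IsPurelyInseparable F (IntermediateField.fixedField (⊤ : Subgroup Gal(L/F))) := by
  classical
  rw [isPurelyInseparable_iff_natSepDegree_eq_one]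
  intro x
  rw [← minpoly.algebraMap_eq (algebraMap (IntermediateField.fixedField (⊤ : Subgroup Gal(L/F))) L).injective x]
  set y := algebraMap (IntermediateField.fixedField (⊤ : Subgroup Gal(L/F))) L x
  have hint : IsIntegral F y := IsIntegral.of_finite F y
  rw [Polynomial.natSepDegree_eq_of_splits _ (Normal.splits ‹_› y), Finset.card_eq_one]
  refine ⟨y, Finset.ext fun z => ?_⟩
  simp only [Multiset.mem_toFinset, Finset.mem_singleton, Polynomial.mem_aroots]
  constructor
  · rintro ⟨-, hz⟩
    have he : minpoly F z = minpoly F y :=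
      (minpoly.eq_of_irreducible_of_monic (minpoly.irreducible hint) hz (minpoly.monic hint)).symm
    obtain ⟨σ, hσ⟩ := (Normal.minpoly_eq_iff_mem_orbit (F := F) (E := L)).1 he
    rw [← hσ]
    exact x.2 ⟨σ, trivial⟩
  · rintro rfl
    exact ⟨minpoly.ne_zero hint, minpoly.aeval F y⟩

theorem finite_integralClosure_purelyInseparable (F L : Type u) [Field F] [Field L]
    [Algebra (MvPolynomial (Fin d) k) F] [IsFractionRing (MvPolynomial (Fin d) k) F]
    [Algebra (MvPolynomial (Fin d) k) L] [Algebra F L] [IsScalarTower (MvPolynomial (Fin d) k) F L]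
    [FiniteDimensional F L] [IsPurelyInseparable F L] :
    Module.Finite (MvPolynomial (Fin d) k) (integralClosure (MvPolynomial (Fin d) k) L) := by
  classical
  let P := MvPolynomial (Fin d) k
  obtain ⟨q, hq⟩ := ExpChar.exists k
  haveI : ExpChar P q := expChar_of_injective_algebraMap (MvPolynomial.C_injective _ k) q
  haveI : ExpChar F q := expChar_of_injective_algebraMap (IsFractionRing.injective P F) q
  haveI : ExpChar L q := expChar_of_injective_algebraMap (algebraMap F L).injective q
  let b := Module.finBasis F L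
  choose N hN using fun i => IsPurelyInseparable.pow_mem F q (b i)
  let n := Finset.univ.sup N
  have hall : ∀ x : L, ∃ y : F, algebraMap F L y = x ^ q ^ n := by
    intro x
    show x ^ q ^ n ∈ (algebraMap F L).range
    rw [← b.sum_repr x, sum_pow_char_pow]
    refine sum_mem fun i _ => ?_
    rw [Algebra.smul_def, mul_pow, ← map_pow]
    refine mul_mem ⟨_, rfl⟩ ?_
    have hNn : N i ≤ n := Finset.le_sup (Finset.mem_univ i)
    rw [← Nat.add_sub_cancel' hNn, pow_add, pow_mul]
    exact pow_mem (hN i) _
  choose Φ₀ hΦ₀ using hall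
  let Φ : L →+* F :=
    { toFun := Φ₀
      map_one' := (algebraMap F L).injective (by rw [hΦ₀, one_pow, map_one])
      map_mul' := fun x y => (algebraMap F L).injective (by rw [hΦ₀, map_mul, hΦ₀, hΦ₀, mul_pow])
      map_zero' := (algebraMap F L).injective (by rw [hΦ₀, map_zero, zero_pow (pow_ne_zero n (expChar_pos L q).ne')])
      map_add' := fun x y => (algebraMap F L).injective (by rw [hΦ₀, map_add, hΦ₀, hΦ₀, add_pow_expChar_pow]) }
  let ψ : P →+* P := iterateFrobenius P q n
  have hψ : ∀ p : P, Φ (algebraMap P L p) = algebraMap P F (ψ p) := fun p => by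
    apply (algebraMap F L).injective
    show algebraMap F L (Φ₀ _) = _
    rw [hΦ₀, ← IsScalarTower.algebraMap_apply, iterateFrobenius_def, map_pow]
  choose num den hden hfrac using fun i => IsFractionRing.div_surjective P (Φ (b i))
  let cs : Finset k := Finset.univ.biUnion fun i => (num i).coeffs ∪ (den i).coeffs
  obtain ⟨S, K₀, hψS₀, hι, hcoef, hfin⟩ := exists_frobenius_subring (d := d) q n cs
  let ι : MvPolynomial (Fin d) K₀ →+* P := MvPolynomial.map K₀.subtype
  have hιinj : Function.Injective ι := MvPolynomial.map_injective _ K₀.subtype.injective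
  let σ : MvPolynomial (Fin d) K₀ →+* F := (algebraMap P F).comp ι
  have hσ : Function.Injective σ := (IsFractionRing.injective P F).comp hιinj
  let ρ : FractionRing (MvPolynomial (Fin d) K₀) →+* F := IsFractionRing.lift hσ
  have hρ : ∀ r, ρ (algebraMap _ _ r) = σ r := IsFractionRing.lift_algebraMap hσ
  have hSρ : ∀ p ∈ S, algebraMap P F p ∈ ρ.fieldRange := fun p hp => by
    rw [hι] at hp
    obtain ⟨r, rfl⟩ := hp
    exact ⟨algebraMap _ _ r, hρ r⟩
  have hΦF : ∀ f : F, Φ (algebraMap F L f) ∈ ρ.fieldRange := fun f => by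
    obtain ⟨u, v, -, rfl⟩ := IsFractionRing.div_surjective P f
    rw [map_div₀, map_div₀, ← IsScalarTower.algebraMap_apply, ← IsScalarTower.algebraMap_apply, hψ, hψ]
    exact div_mem (hSρ _ (hψS₀ u)) (hSρ _ (hψS₀ v))
  have hΦρ : ∀ x : L, Φ x ∈ ρ.fieldRange := fun x => by
    rw [← b.sum_repr x, map_sum]
    refine sum_mem fun i _ => ?_
    rw [Algebra.smul_def, map_mul, ← hfrac i]
    refine mul_mem (hΦF _) (div_mem (hSρ _ (hcoef _ ?_)) (hSρ _ (hcoef _ ?_)))
    · exact fun a ha => Finset.mem_biUnion.2 ⟨i, Finset.mem_univ i, Finset.mem_union_left _ ha⟩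
    · exact fun a ha => Finset.mem_biUnion.2 ⟨i, Finset.mem_univ i, Finset.mem_union_right _ ha⟩
  letI algS : Algebra P S := (ψ.codRestrict S hψS₀).toAlgebra
  have hmemS : ∀ x : integralClosure P L, ∃ s : S, algebraMap P F s = Φ (x : L) := fun x => by
    obtain ⟨z, hz⟩ := hΦρ (x : L)
    obtain ⟨p, hp, hp0⟩ := x.2
    have hψS : ∀ c, ψ c ∈ ι.range := fun c => hι ▸ hψS₀ c
    choose ψ' hψ' using hψS
    let ψh : P →+* MvPolynomial (Fin d) K₀ :=
      { toFun := ψ'
        map_one' := hιinj (by rw [hψ', map_one, map_one])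
        map_mul' := fun a a' => hιinj (by rw [hψ', map_mul, map_mul, hψ', hψ'])
        map_zero' := hιinj (by rw [hψ', map_zero, map_zero])
        map_add' := fun a a' => hιinj (by rw [hψ', map_add, map_add, hψ', hψ']) }
    have hint : IsIntegral (MvPolynomial (Fin d) K₀) z := by
      refine ⟨p.map ψh, hp.map ψh, ρ.injective ?_⟩
      rw [Polynomial.eval₂_map, Polynomial.hom_eval₂, map_zero, hz, ← map_zero Φ, ← hp0, Polynomial.hom_eval₂]
      congr 1
      refine RingHom.ext fun c => ?_
      show ρ (algebraMap _ _ (ψ' c)) = Φ (algebraMap P L c)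
      rw [hρ, hψ]
      exact congrArg (algebraMap P F) (hψ' c)
    obtain ⟨r, hr⟩ := IsIntegrallyClosed.isIntegral_iff.1 hint
    exact ⟨⟨ι r, hι ▸ ⟨r, rfl⟩⟩, by rw [← hz, ← hr, hρ]; rfl⟩
  haveI : Module.Finite P S := hfin
  haveI : IsNoetherian P S := isNoetherian_of_isNoetherianRing_of_finite P S
  choose f hf using hmemS
  let g : integralClosure P L →ₗ[P] S :=
    { toFun := f
      map_add' := fun x y => Subtype.ext (IsFractionRing.injective P F (by
        rw [hf, Subalgebra.coe_add, map_add, ← hf, ← hf, ← map_add]; rfl))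
      map_smul' := fun p x => Subtype.ext (IsFractionRing.injective P F (by
        rw [hf, Subalgebra.coe_smul, Algebra.smul_def, map_mul, hψ, ← hf, ← map_mul]; rfl)) }
  exact Module.Finite.of_injective g fun x y h => Subtype.ext (Φ.injective (by
    rw [← hf, ← hf]; exact congrArg (fun s : S => algebraMap P F s) h))

end Groth.Agent.IntClosFin
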