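import Mathlib.RingTheory.Adjoin.FG
import Mathlib.RingTheory.Finiteness.Basic
import Mathlib.RingTheory.IntegralClosure.IsIntegralClosure.Basic
import Mathlib.RingTheory.MvPolynomial.Basic
import Mathlib.Algebra.CharP.Frobenius
import Mathlib.Algebra.Field.Subfield.Basic

/-!
The subring of a polynomial ring generated by `Q`-th powers, the variables and finitely many constants.
-/

universe u

open MvPolynomial

namespace Groth.Agent.IntClosFin

variable {k : Type u} [Field k] {d : ℕ}

/-- A ring generated over the image of `ψ` by finitely many elements whose `N`-th powers lie in the image. -/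
theorem finite_codRestrict_of_pow {P : Type u} [CommRing P] (ψ : P →+* P) (G : Finset P) (N : ℕ) (hN : N ≠ 0)
    (hpow : ∀ x, ∃ y, ψ y = x ^ N) (S : Subring P) (hS : S = Subring.closure (Set.range ψ ∪ (G : Set P)))
    (hψ : ∀ p, ψ p ∈ S) : (ψ.codRestrict S hψ).Finite := by
  classical
  letI : Algebra P S := (ψ.codRestrict S hψ).toAlgebra
  show Module.Finite P S
  let g : Finset S := G.attach.image fun e => (⟨e.1, hS ▸ Subring.subset_closure (Or.inr e.2)⟩ : S)
  have hle : S ≤ (Algebra.adjoin P (g : Set S)).toSubring.map S.subtype := by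
    refine hS.le.trans (Subring.closure_le.2 ?_)
    rintro y (⟨p, rfl⟩ | hy)
    · exact ⟨algebraMap P S p, Subalgebra.algebraMap_mem _ p, rfl⟩
    · exact ⟨_, Algebra.subset_adjoin (Finset.mem_coe.2 (Finset.mem_image.2 ⟨⟨y, hy⟩, Finset.mem_attach _ _, rfl⟩)), rfl⟩
  have htop : Algebra.adjoin P (g : Set S) = ⊤ := top_le_iff.1 fun x _ => by
    obtain ⟨z, hz, hzx⟩ := hle x.2
    obtain rfl : z = x := Subtype.ext hzx
    exact hz
  refine Module.finite_def.2 ?_
  rw [← Algebra.top_toSubmodule, ← htop]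
  refine fg_adjoin_of_finite g.finite_toSet fun x _ => ?_
  obtain ⟨y, hy⟩ := hpow x
  refine ⟨Polynomial.X ^ N - Polynomial.C y, Polynomial.monic_X_pow_sub_C _ hN, ?_⟩
  rw [Polynomial.eval₂_sub, Polynomial.eval₂_X_pow, Polynomial.eval₂_C, sub_eq_zero]
  exact Subtype.ext hy.symm

theorem exists_frobenius_subring (q n : ℕ) [ExpChar k q] [ExpChar (MvPolynomial (Fin d) k) q] (cs : Finset k) :
    ∃ (S : Subring (MvPolynomial (Fin d) k)) (K₀ : Subfield k)
      (hψ : ∀ p, iterateFrobenius (MvPolynomial (Fin d) k) q n p ∈ S),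
      S = (MvPolynomial.map (σ := Fin d) K₀.subtype).range ∧
      (∀ p : MvPolynomial (Fin d) k, p.coeffs ⊆ cs → p ∈ S) ∧
      ((iterateFrobenius (MvPolynomial (Fin d) k) q n).codRestrict S hψ).Finite := by
  classical
  set ψ := iterateFrobenius (MvPolynomial (Fin d) k) q n with hψdef
  let Gf : Finset (MvPolynomial (Fin d) k) :=
    Finset.univ.image (X : Fin d → MvPolynomial (Fin d) k) ∪ cs.image (C : k →+* MvPolynomial (Fin d) k)
  let S : Subring (MvPolynomial (Fin d) k) := Subring.closure (Set.range ψ ∪ (Gf : Set _))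
  have hψS : ∀ p, ψ p ∈ S := fun p => Subring.subset_closure (Or.inl ⟨p, rfl⟩)
  have hX : ∀ i, (X i : MvPolynomial (Fin d) k) ∈ S := fun i => Subring.subset_closure (Or.inr
    (Finset.mem_coe.2 (Finset.mem_union_left _ (Finset.mem_image.2 ⟨i, Finset.mem_univ _, rfl⟩))))
  have hC : ∀ a ∈ cs, (C a : MvPolynomial (Fin d) k) ∈ S := fun a ha => Subring.subset_closure (Or.inr
    (Finset.mem_coe.2 (Finset.mem_union_right _ (Finset.mem_image.2 ⟨a, ha, rfl⟩))))
  have hCq : ∀ a : k, (C (a ^ q ^ n) : MvPolynomial (Fin d) k) ∈ S := fun a => by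
    have := hψS (C a)
    rwa [hψdef, iterateFrobenius_def, ← map_pow] at this
  have hpos : 1 ≤ q ^ n := Nat.one_le_pow _ _ (expChar_pos k q)
  let K₀ : Subfield k :=
    { Subring.comap (C : k →+* MvPolynomial (Fin d) k) S with
      inv_mem' := fun a ha => by
        rcases eq_or_ne a 0 with rfl | ha0
        · simpa using ha
        have e : a⁻¹ = (a⁻¹) ^ q ^ n * a ^ (q ^ n - 1) := by
          conv_rhs => rw [show q ^ n = (q ^ n - 1) + 1 from (Nat.sub_add_cancel hpos).symm]
          rw [Nat.add_sub_cancel, pow_succ, mul_comm ((a⁻¹) ^ (q ^ n - 1)), mul_assoc, ← mul_pow, inv_mul_cancel₀ ha0,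
            one_pow, mul_one]
        show (C a⁻¹ : MvPolynomial (Fin d) k) ∈ S
        rw [e, map_mul, map_pow]
        exact mul_mem (by rw [← map_pow]; exact hCq _) (by rw [map_pow]; exact pow_mem ha _) }
  have hrange : ∀ (a : k), (C a : MvPolynomial (Fin d) k) ∈ S → C a ∈ (MvPolynomial.map (σ := Fin d) K₀.subtype).range :=
    fun a ha => ⟨C ⟨a, ha⟩, MvPolynomial.map_C _ _⟩
  have hι : S = (MvPolynomial.map (σ := Fin d) K₀.subtype).range := by
    refine le_antisymm (Subring.closure_le.2 ?_) ?_
    · rintro x (⟨p, rfl⟩ | hx)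
      · show ψ p ∈ (MvPolynomial.map (σ := Fin d) K₀.subtype).range
        induction p using MvPolynomial.induction_on with
        | C a =>
          rw [hψdef, iterateFrobenius_def, ← map_pow]
          exact hrange _ (hCq a)
        | add p p' hp hp' => rw [map_add]; exact add_mem hp hp'
        | mul_X p i hp =>
          rw [map_mul]
          refine mul_mem hp ⟨X i ^ q ^ n, ?_⟩
          rw [map_pow, MvPolynomial.map_X, hψdef, iterateFrobenius_def]
      · rcases Finset.mem_union.1 (Finset.mem_coe.1 hx) with h | h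
        · obtain ⟨i, -, rfl⟩ := Finset.mem_image.1 h
          exact ⟨X i, MvPolynomial.map_X _ i⟩
        · obtain ⟨a, ha, rfl⟩ := Finset.mem_image.1 h
          exact hrange a (hC a ha)
    · rintro _ ⟨p, rfl⟩
      induction p using MvPolynomial.induction_on with
      | C a => rw [MvPolynomial.map_C]; exact a.2
      | add p p' hp hp' => rw [map_add]; exact add_mem hp hp'
      | mul_X p i hp => rw [map_mul, MvPolynomial.map_X]; exact mul_mem hp (hX i)
  refine ⟨S, K₀, hψS, hι, fun p hp => ?_, ?_⟩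
  · rw [MvPolynomial.as_sum p]
    refine sum_mem fun m hm => ?_
    rw [MvPolynomial.monomial_eq]
    exact mul_mem (hC _ (hp (MvPolynomial.coeff_mem_coeffs m (MvPolynomial.mem_support_iff.1 hm))))
      (prod_mem fun i _ => pow_mem (hX i) _)
  · refine finite_codRestrict_of_pow ψ Gf (q ^ n) (by omega) (fun x => ⟨x, iterateFrobenius_def _ _ _⟩) S rfl hψS

end Groth.Agent.IntClosFin
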